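import Mathlib
import Cfsg.Prelude.Def_Classical
import Cfsg.Agent.Eq.Def_Classical

/-!
In characteristic two, over a finite field, two isometries of a quadratic form with non-degenerate polar
form that are conjugate by an isometry of the polar form are conjugate by an isometry of the quadratic form.
-/

set_option autoImplicit false

namespace CfsgLib.OrthoCharTwo

open scoped MatrixGroups

variable {F : Type*} [Field F] [Fintype F] [CharP F 2]

/-- `μ ↦ μ² + μ` as an additive map. -/
def artinSchreierHom (F : Type*) [Field F] [CharP F 2] : F →+ F where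
  toFun μ := μ ^ 2 + μ
  map_zero' := by simp
  map_add' a b := by rw [CharTwo.add_sq]; abel

theorem artinSchreierHom_range_index : (artinSchreierHom F).range.index = 2 := by
  classical
  have hker : Nat.card (artinSchreierHom F).ker = 2 := by
    have : ((artinSchreierHom F).ker : Set F) = {0, 1} := by
      ext x
      simp only [SetLike.mem_coe, AddMonoidHom.mem_ker, Set.mem_insert_iff, Set.mem_singleton_iff]
      show x ^ 2 + x = 0 ↔ _
      constructor
      · intro h
        have : x * (x + 1) = 0 := by linear_combination h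
        rcases mul_eq_zero.1 this with h | h
        · exact Or.inl h
        · exact Or.inr (CharTwo.add_eq_zero.1 h)
      · rintro (rfl | rfl)
        · simp
        · simp [CharTwo.add_self_eq_zero]
    rw [← SetLike.coe_sort_coe, Nat.card_coe_set_eq, this, Set.ncard_pair zero_ne_one]
  have h := AddSubgroup.card_mul_index (artinSchreierHom F).range
  have h' := AddSubgroup.card_mul_index (artinSchreierHom F).ker
  rw [AddSubgroup.index_ker] at h'
  rw [hker] at h'
  have hpos : 0 < Nat.card (artinSchreierHom F).range := Nat.card_pos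
  nlinarith

open Classical in
/-- The non-trivial additive character killing every `μ² + μ`, with values `±1`. -/
noncomputable def psi (x : F) : ℤ := if x ∈ (artinSchreierHom F).range then 1 else -1

theorem psi_add (x y : F) : psi (x + y) = psi x * psi y := by
  classical
  have h := AddSubgroup.add_mem_iff_of_index_two (artinSchreierHom_range_index (F := F)) (a := x) (b := y)
  unfold psi
  split_ifs <;> simp_all

theorem psi_sq (x : F) : psi (x ^ 2) = psi x := by
  classical
  have hmem : x ^ 2 + x ∈ (artinSchreierHom F).range := ⟨x, rfl⟩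
  have h := (AddSubgroup.add_mem_iff_of_index_two (artinSchreierHom_range_index (F := F))).1 hmem
  unfold psi
  rw [if_congr h rfl rfl]

theorem psi_mul_self (x : F) : psi x * psi x = 1 := by
  classical
  unfold psi
  split_ifs <;> simp

theorem exists_psi_ne_one : ∃ x : F, psi x = -1 := by
  classical
  by_contra h
  push Not at h
  have htop : (artinSchreierHom F).range = ⊤ := by
    ext x
    simp only [AddSubgroup.mem_top, iff_true]
    by_contra hx
    exact h x (if_neg hx)
  have := artinSchreierHom_range_index (F := F)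
  rw [htop, AddSubgroup.index_top] at this
  omega

section

variable {ι : Type} [Fintype ι] [DecidableEq ι]

theorem charSum_polar_eq_zero (B : (ι → F) →ₗ[F] (ι → F) →ₗ[F] F) {z : ι → F}
    (hz : ∃ x, B x z ≠ 0) : ∑ x : ι → F, psi (B x z) = 0 := by
  obtain ⟨c, hc⟩ := exists_psi_ne_one (F := F)
  obtain ⟨x, hx⟩ := hz
  have h1 : B ((c / B x z) • x) z = c := by
    rw [map_smul, LinearMap.smul_apply, smul_eq_mul, div_mul_cancel₀ _ hx]
  have h := Fintype.sum_equiv (Equiv.addRight ((c / B x z) • x))
    (fun u => psi (B (u + (c / B x z) • x) z)) (fun u => psi (B u z)) (fun u => rfl)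
  have h' : ∀ u, psi (B (u + (c / B x z) • x) z) = - psi (B u z) := by
    intro u
    rw [map_add, LinearMap.add_apply, h1, psi_add, hc]
    ring
  simp only [h', Finset.sum_neg_distrib] at h
  omega

/-- The Gauss sum of a quadratic form with non-degenerate polar form does not vanish. -/
theorem charSum_sq (Q : (ι → F) → F) (B : (ι → F) →ₗ[F] (ι → F) →ₗ[F] F)
    (hB : ∀ u v, Q (u + v) = Q u + Q v + B u v) (hnd : ∀ z, (∀ x, B x z = 0) → z = 0) :
    (∑ x : ι → F, psi (Q x)) * (∑ x : ι → F, psi (Q x)) = (Fintype.card (ι → F) : ℤ) := by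
  classical
  rw [Finset.sum_mul_sum]
  calc ∑ x : ι → F, ∑ y : ι → F, psi (Q x) * psi (Q y)
      = ∑ x : ι → F, ∑ z : ι → F, psi (Q z) * psi (B x z) := by
        refine Finset.sum_congr rfl (fun x _ => ?_)
        refine (Fintype.sum_equiv (Equiv.addLeft x) _ _ (fun z => ?_)).symm
        simp only [Equiv.coe_addLeft, hB, psi_add]
        have := psi_mul_self (Q x)
        linear_combination (-(psi (Q z) * psi (B x z))) * this
    _ = ∑ z : ι → F, psi (Q z) * ∑ x : ι → F, psi (B x z) := by
        rw [Finset.sum_comm]
        simp [Finset.mul_sum]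
    _ = (Fintype.card (ι → F) : ℤ) := by
        rw [Finset.sum_eq_single (0 : ι → F)]
        · have h0 : Q 0 = 0 := by
            have := hB 0 0
            simpa using this
          have hpsi : psi (0 : F) = 1 := by
            unfold psi
            exact if_pos (zero_mem _)
          simp [h0, hpsi]
        · intro z _ hz
          rw [charSum_polar_eq_zero B, mul_zero]
          by_contra h
          push Not at h
          exact hz (hnd z h)
        · simp

/-- An isometry of the polar form moves `Q` to `Q + B(·, a)²`. -/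
theorem exists_vec_of_polar_isometry (Q : (ι → F) → F) (B : (ι → F) →ₗ[F] (ι → F) →ₗ[F] F)
    (hsmul : ∀ (c : F) v, Q (c • v) = c ^ 2 * Q v)
    (hB : ∀ u v, Q (u + v) = Q u + Q v + B u v) (hnd : ∀ z, (∀ x, B x z = 0) → z = 0)
    (G : (ι → F) →ₗ[F] (ι → F)) (hG : ∀ u v, B (G u) (G v) = B u v) :
    ∃ a, ∀ v, Q (G v) = Q v + B v a ^ 2 := by
  classical
  have hsurj : ∀ x : F, ∃ y, y ^ 2 = x := (bijective_frobenius F 2).2
  choose r hr using hsurj
  have hinj : ∀ x y : F, x ^ 2 = y ^ 2 → x = y := fun x y h => (bijective_frobenius F 2).1 h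
  let ℓ : (ι → F) →ₗ[F] F :=
    { toFun := fun v => r (Q (G v) - Q v)
      map_add' := fun u v => hinj _ _ (by
        rw [hr, CharTwo.add_sq, hr, hr, map_add, hB, hB, hG]
        ring)
      map_smul' := fun c v => hinj _ _ (by
        simp only [RingHom.id_apply, smul_eq_mul]
        rw [hr, mul_pow, hr, map_smul, hsmul, hsmul]
        ring) }
  have hdual : Function.Surjective B.flip := by
    have hinjB : Function.Injective B.flip := by
      rw [← LinearMap.ker_eq_bot, LinearMap.ker_eq_bot']
      intro z hz
      exact hnd z (fun x => LinearMap.congr_fun hz x)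
    exact (LinearMap.injective_iff_surjective_of_finrank_eq_finrank
      Subspace.dual_finrank_eq.symm).1 hinjB
  obtain ⟨a, ha⟩ := hdual ℓ
  refine ⟨a, fun v => ?_⟩
  have h : B v a = r (Q (G v) - Q v) := LinearMap.congr_fun ha v
  rw [h, hr]
  ring

/-- Elements of the isometry group of `Q` conjugate under the group of the polar form are conjugate. -/
theorem isConj_of_polar_conj (Q : (ι → F) → F) (B : (ι → F) →ₗ[F] (ι → F) →ₗ[F] F)
    (hsmul : ∀ (c : F) v, Q (c • v) = c ^ 2 * Q v)
    (hB : ∀ u v, Q (u + v) = Q u + Q v + B u v) (hnd : ∀ z, (∀ x, B x z = 0) → z = 0)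
    (t s : ↥(Cfsg.isometryGroup F Q)) :
    IsConj t s ↔ ∃ g ∈ Cfsg.preserving (Units.coeHom (Matrix ι ι F))
        (fun u v => Q (u + v) - Q u - Q v),
      g * (t : GL ι F) * g⁻¹ = (s : GL ι F) := by
  classical
  have hpolar : ∀ u v, Q (u + v) - Q u - Q v = B u v := fun u v => by rw [hB]; ring
  have hpres : ∀ k : GL ι F, k ∈ Cfsg.isometryGroup F Q ↔
      ∀ v, Q ((k : Matrix ι ι F).mulVec v) = Q v :=
    fun k => ⟨fun h v => h v v, fun h u _ => h u⟩
  constructor
  · intro h
    obtain ⟨c, hc⟩ := isConj_iff.1 h
    refine ⟨c, ?_, congrArg Subtype.val hc⟩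
    intro u v
    have hc' := (hpres c).1 c.2
    show Q (_ + _) - Q _ - Q _ = Q (u + v) - Q u - Q v
    rw [← Matrix.mulVec_add]
    simp only [Units.coeHom_apply, hc']
  · rintro ⟨g, hg, hgts⟩
    have hg' : ∀ u v, B ((g : Matrix ι ι F).mulVec u) ((g : Matrix ι ι F).mulVec v) = B u v := by
      intro u v
      rw [← hpolar, ← hpolar]
      exact hg u v
    have hQ0 : Q 0 = 0 := by simpa using hB 0 0
    have halt : ∀ v, B v v = 0 := by
      intro v
      have := hB v v
      rw [← two_smul F v, hsmul, show (2 : F) = 0 from CharTwo.two_eq_zero] at this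
      simpa [CharTwo.add_self_eq_zero] using this.symm
    have ht := (hpres (t : GL ι F)).1 t.2
    have hs := (hpres (s : GL ι F)).1 s.2
    obtain ⟨a, ha⟩ := exists_vec_of_polar_isometry Q B hsmul hB hnd
      (Matrix.mulVecLin (g : Matrix ι ι F)) hg'
    simp only [Matrix.mulVecLin_apply] at ha
    set T : Matrix ι ι F := ((t : GL ι F) : Matrix ι ι F) with hT
    have hBt : ∀ u v, B (T.mulVec u) (T.mulVec v) = B u v := by
      intro u v
      rw [← hpolar, ← hpolar, ← Matrix.mulVec_add, ht, ht, ht]
    -- `a` is fixed by `t`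
    have hgt : (g : Matrix ι ι F) * T = ((s : GL ι F) : Matrix ι ι F) * (g : Matrix ι ι F) := by
      have h : g * (t : GL ι F) = (s : GL ι F) * g := by rw [← hgts]; group
      exact congrArg Units.val h
    have hinv : ∀ v, B (T.mulVec v) a = B v a := by
      intro v
      have h1 := ha (T.mulVec v)
      rw [Matrix.mulVec_mulVec, hgt, ← Matrix.mulVec_mulVec, hs, ht, ha] at h1
      exact ((bijective_frobenius F 2).1 (add_left_cancel h1)).symm
    have hta : T.mulVec a = a := by
      refine eq_of_sub_eq_zero (hnd _ (fun x => ?_))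
      obtain ⟨y, hy⟩ : ∃ y, T.mulVec y = x :=
        ⟨(((t : GL ι F)⁻¹ : GL ι F) : Matrix ι ι F).mulVec x, by
          rw [Matrix.mulVec_mulVec, hT, ← Units.val_mul, mul_inv_cancel, Units.val_one, Matrix.one_mulVec]⟩
      rw [map_sub, sub_eq_zero, ← hy, hBt, hinv]
    -- the value `Q a` has trace zero
    have hpsi : psi (Q a) = 1 := by
      have h1 : ∑ v : ι → F, psi (Q ((g : Matrix ι ι F).mulVec v)) = ∑ v : ι → F, psi (Q v) := by
        refine Function.Bijective.sum_comp ?_ (fun v => psi (Q v))
        refine Finite.injective_iff_bijective.1 (fun x y h => ?_)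
        have := congrArg ((g⁻¹ : GL ι F) : Matrix ι ι F).mulVec h
        simpa [Matrix.mulVec_mulVec, ← Units.val_mul] using this
      have h2 : ∀ v, psi (Q ((g : Matrix ι ι F).mulVec v)) = psi (Q (v + a)) * psi (Q a) := by
        intro v
        rw [ha, psi_add, psi_sq, hB, psi_add, psi_add]
        have := psi_mul_self (Q a)
        linear_combination (-(psi (Q v) * psi (B v a))) * this
      simp only [h2, ← Finset.sum_mul] at h1
      rw [Fintype.sum_equiv (Equiv.addRight a) (fun v => psi (Q (v + a))) (fun v => psi (Q v))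
        (fun v => rfl)] at h1
      have hne : (∑ v : ι → F, psi (Q v)) ≠ 0 := by
        intro h0
        have := charSum_sq Q B hB hnd
        rw [h0, mul_zero] at this
        exact absurd this.symm (by exact_mod_cast Fintype.card_ne_zero)
      exact mul_left_cancel₀ hne (h1.trans (mul_one _).symm)
    obtain ⟨c, hc⟩ : ∃ c : F, c + c ^ 2 * Q a = 1 := by
      by_cases h0 : Q a = 0
      · exact ⟨1, by simp [h0]⟩
      · have hmem : Q a ∈ (artinSchreierHom F).range := by
          by_contra h
          unfold psi at hpsi
          rw [if_neg h] at hpsi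
          norm_num at hpsi
        obtain ⟨μ, hμ⟩ := hmem
        have hμ' : μ ^ 2 + μ = Q a := hμ
        refine ⟨μ / Q a, ?_⟩
        field_simp
        linear_combination hμ'
    -- the transvection along `a`
    let L : (ι → F) →ₗ[F] (ι → F) :=
      LinearMap.id + c • ((B.flip a).smulRight a)
    have hL : ∀ v, L v = v + (c * B v a) • a := by
      intro v
      simp [L, smul_smul]
    have hLL : L.comp L = LinearMap.id := by
      refine LinearMap.ext (fun v => ?_)
      simp only [LinearMap.comp_apply, LinearMap.id_apply, hL, map_add, map_smul, LinearMap.add_apply,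
        LinearMap.smul_apply, smul_eq_mul, halt, mul_zero, add_zero]
      rw [add_assoc, ← add_smul, CharTwo.add_self_eq_zero, zero_smul, add_zero]
    have hMM : LinearMap.toMatrix' L * LinearMap.toMatrix' L = 1 := by
      rw [← LinearMap.toMatrix'_comp, hLL, LinearMap.toMatrix'_id]
    let h : GL ι F := ⟨LinearMap.toMatrix' L, LinearMap.toMatrix' L, hMM, hMM⟩
    have hhv : ∀ v, (h : Matrix ι ι F).mulVec v = L v := fun v => LinearMap.toMatrix'_mulVec L v
    have hk : g * h ∈ Cfsg.isometryGroup F Q := by
      rw [hpres]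
      intro v
      rw [Units.val_mul, ← Matrix.mulVec_mulVec, hhv, ha, hL, hB, hsmul]
      simp only [map_add, map_smul, LinearMap.add_apply, LinearMap.smul_apply, halt, smul_eq_mul,
        mul_zero, add_zero]
      linear_combination (B v a ^ 2) * hc + CharTwo.add_self_eq_zero (B v a ^ 2)
    have hcomm : h * (t : GL ι F) = (t : GL ι F) * h := by
      refine Units.ext (Matrix.toLin'.injective (LinearMap.ext (fun v => ?_)))
      rw [Units.val_mul, Units.val_mul, Matrix.toLin'_apply, Matrix.toLin'_apply,
        ← Matrix.mulVec_mulVec, ← Matrix.mulVec_mulVec, hhv, hhv, hL, hL, Matrix.mulVec_add,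
        Matrix.mulVec_smul, ← hT, hta, hinv]
    refine isConj_iff.2 ⟨⟨g * h, hk⟩, Subtype.ext ?_⟩
    show g * h * (t : GL ι F) * (g * h)⁻¹ = _
    rw [mul_assoc g h, hcomm, ← hgts]
    group

end

end CfsgLib.OrthoCharTwo
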