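/-
Lower bounds for the degree of a representation from the characters of an elementary
abelian subgroup in cross characteristic.
-/
import Mathlib.LinearAlgebra.Matrix.GeneralLinearGroup.Defs
import Mathlib.RingTheory.Trace.Basic
import Mathlib.FieldTheory.Finite.Basic
import Mathlib.NumberTheory.LegendreSymbol.AddCharacter
import Mathlib.RingTheory.RootsOfUnity.Basic
import Mathlib.RingTheory.Polynomial.Cyclotomic.Roots
import Mathlib.FieldTheory.IsAlgClosed.AlgebraicClosure
import Mathlib.LinearAlgebra.Dimension.Constructions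

set_option autoImplicit false

namespace CfsgLib.CrossChar

open Matrix

/-- A primitive additive character of a finite field into an algebraically closed field of another
characteristic. -/
theorem exists_primitive_char {F : Type*} [Field F] [Finite F] (L : Type*) [Field L] [IsAlgClosed L]
    (h : ringChar L ≠ ringChar F) :
    ∃ ψ : AddChar F L, ∀ a : F, a ≠ 0 → ∃ x : F, ψ (a * x) ≠ 1 := by
  classical
  obtain ⟨p, hp⟩ : ∃ p, ringChar F = p := ⟨_, rfl⟩
  have : CharP F p := hp ▸ ringChar.charP F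
  have hprime : Fact p.Prime := ⟨CharP.char_is_prime F p⟩
  have hpL : (p : L) ≠ 0 := by
    intro h0
    have hdvd := (ringChar.spec L p).mp h0
    rcases hprime.out.eq_one_or_self_of_dvd _ hdvd with h1 | h1
    · exact CharP.ringChar_ne_one h1
    · exact h (h1.trans hp.symm)
  have : NeZero (p : L) := ⟨hpL⟩
  obtain ⟨ζ, hζ⟩ := IsAlgClosed.exists_root (Polynomial.cyclotomic p L)
    (Polynomial.degree_cyclotomic_pos p L hprime.out.pos).ne'
  have hζ' : IsPrimitiveRoot ζ p := Polynomial.isRoot_cyclotomic_iff.mp hζ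
  let _ : Algebra (ZMod p) F := ZMod.algebra F p
  let χ := AddChar.zmodChar p hζ'.pow_eq_one
  refine ⟨χ.compAddMonoidHom (Algebra.trace (ZMod p) F).toAddMonoidHom, fun a ha => ?_⟩
  obtain ⟨b, hb⟩ := Algebra.trace_surjective (ZMod p) F 1
  refine ⟨a⁻¹ * b, ?_⟩
  have : a * (a⁻¹ * b) = b := by rw [← mul_assoc, mul_inv_cancel₀ ha, one_mul]
  rw [this]
  simp [hb, χ, AddChar.zmodChar_apply, ZMod.val_one, hζ'.ne_one hprime.out.one_lt]

variable {F L : Type*} [Field F] [Field L] {ι : Type*} [Fintype ι] {d : ℕ}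
variable (ψ : AddChar F L) (R : (ι → F) → Matrix (Fin d) (Fin d) L)

/-- `y` is a nonzero common eigenvector with the character `v ↦ ψ (w ⬝ᵥ v)`. -/
def IsWeightVec (w : ι → F) (y : Fin d → L) : Prop :=
  y ≠ 0 ∧ ∀ v, R v *ᵥ y = ψ (w ⬝ᵥ v) • y

theorem sum_char_eq [Fintype F] [DecidableEq F] [DecidableEq ι] (hψ : ∀ a : F, a ≠ 0 → ∃ x : F, ψ (a * x) ≠ 1)
    (w : ι → F) (hw : w ≠ 0) : ∑ v : ι → F, ψ (w ⬝ᵥ v) = 0 := by
  obtain ⟨i, hi⟩ := Function.ne_iff.mp hw
  obtain ⟨x, hx⟩ := hψ (w i) hi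
  let φ : AddChar (ι → F) L :=
    { toFun := fun v => ψ (w ⬝ᵥ v)
      map_zero_eq_one' := by simp
      map_add_eq_mul' := fun a b => by simp [dotProduct_add, ψ.map_add_eq_mul] }
  have hne : φ ≠ 1 := by
    intro h1
    have h2 := DFunLike.congr_fun h1 (Pi.single i x)
    apply hx
    simpa [φ, dotProduct_single] using h2
  exact AddChar.sum_eq_zero_of_ne_one hne

/-- A nontrivially acting element is detected by some weight vector. -/
theorem exists_isWeightVec [Fintype F] (hψ : ∀ a : F, a ≠ 0 → ∃ x : F, ψ (a * x) ≠ 1)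
    (hcard : (Fintype.card F : L) ≠ 0)
    (h0 : R 0 = 1) (hadd : ∀ u v, R (u + v) = R u * R v)
    (v₀ : ι → F) (hv₀ : R v₀ ≠ 1) :
    ∃ w y, IsWeightVec ψ R w y ∧ ψ (w ⬝ᵥ v₀) ≠ 1 := by
  classical
  have hx : ∃ x : Fin d → L, R v₀ *ᵥ x ≠ x := by
    by_contra hc
    push Not at hc
    exact hv₀ (Matrix.ext_of_mulVec_single fun j => by rw [hc, Matrix.one_mulVec])
  obtain ⟨x, hx⟩ := hx
  let e : (ι → F) → (Fin d → L) := fun w => ∑ v : ι → F, ψ (-(w ⬝ᵥ v)) • (R v *ᵥ x)
  have he : ∀ w u, R u *ᵥ e w = ψ (w ⬝ᵥ u) • e w := by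
    intro w u
    simp only [e, Matrix.mulVec_sum, Matrix.mulVec_smul, Matrix.mulVec_mulVec, ← hadd, Finset.smul_sum, smul_smul]
    refine Fintype.sum_equiv (Equiv.addLeft u) _ _ fun v => ?_
    simp only [Equiv.coe_addLeft, dotProduct_add, ← ψ.map_add_eq_mul]
    congr 1
    rw [neg_add_rev, add_left_comm, add_neg_cancel, add_zero]
  have hsum : ∑ w : ι → F, e w = (Fintype.card (ι → F) : L) • x := by
    simp only [e]
    rw [Finset.sum_comm, Finset.sum_eq_single (0 : ι → F)]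
    · simp [h0, Finset.card_univ, ← Nat.cast_smul_eq_nsmul L]
    · intro v _ hv
      rw [← Finset.sum_smul]
      have : ∑ w : ι → F, ψ (-(w ⬝ᵥ v)) = 0 := by
        rw [← sum_char_eq ψ hψ (-v) (neg_ne_zero.mpr hv)]
        refine Finset.sum_congr rfl fun w _ => ?_
        rw [neg_dotProduct, dotProduct_comm]
      rw [this, zero_smul]
    · simp
  by_contra hc
  push Not at hc
  have hfix : ∀ w, R v₀ *ᵥ e w = e w := by
    intro w
    by_cases hw : e w = 0
    · simp [hw]
    · rw [he, hc w (e w) ⟨hw, he w⟩, one_smul]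
  have h1 : R v₀ *ᵥ ∑ w : ι → F, e w = ∑ w : ι → F, e w := by
    rw [Matrix.mulVec_sum]; exact Finset.sum_congr rfl fun w _ => hfix w
  rw [hsum, Matrix.mulVec_smul] at h1
  refine hx ((smul_right_injective (Fin d → L) ?_) h1)
  rw [Fintype.card_fun, Nat.cast_pow]
  exact pow_ne_zero _ hcard

/-- Distinct weights have linearly independent weight vectors. -/
theorem card_weights_le [Fintype F] (hψ : ∀ a : F, a ≠ 0 → ∃ x : F, ψ (a * x) ≠ 1)
    (hcard : (Fintype.card F : L) ≠ 0)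
    (S : Finset (ι → F)) (hS : ∀ w ∈ S, ∃ y, IsWeightVec ψ R w y) : S.card ≤ d := by
  classical
  choose y hy using fun w : S => hS w.1 w.2
  have hli : LinearIndependent L y := by
    rw [Fintype.linearIndependent_iff]
    intro g hg w
    have key : ∑ v : ι → F, ψ (-(w.1 ⬝ᵥ v)) • (R v *ᵥ ∑ w' : S, g w' • y w') = 0 := by
      rw [hg]; simp
    simp only [Matrix.mulVec_sum, Matrix.mulVec_smul, (hy _).2, Finset.smul_sum, smul_smul] at key
    rw [Finset.sum_comm, Finset.sum_eq_single w] at key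
    · have h1 : ∀ v : ι → F, ψ (-(w.1 ⬝ᵥ v)) * (g w * ψ (w.1 ⬝ᵥ v)) = g w := fun v => by
        rw [mul_left_comm, ← ψ.map_add_eq_mul, neg_add_cancel, ψ.map_zero_eq_one, mul_one]
      simp only [h1, Finset.sum_const, Finset.card_univ, ← Nat.cast_smul_eq_nsmul L, smul_smul,
        Fintype.card_fun, Nat.cast_pow] at key
      rcases smul_eq_zero.mp key with h2 | h2
      · exact (mul_eq_zero.mp h2).resolve_left (pow_ne_zero _ hcard)
      · exact absurd h2 (hy w).1
    · intro w' _ hw'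
      rw [← Finset.sum_smul]
      have h1 : ∀ v : ι → F, ψ (-(w.1 ⬝ᵥ v)) * (g w' * ψ (w'.1 ⬝ᵥ v)) = g w' * ψ ((w'.1 - w.1) ⬝ᵥ v) := fun v => by
        rw [mul_left_comm, ← ψ.map_add_eq_mul, sub_dotProduct, neg_add_eq_sub]
      simp only [h1, ← Finset.mul_sum]
      rw [sum_char_eq ψ hψ _ (sub_ne_zero.mpr fun h => hw' (Subtype.ext h)), mul_zero, zero_smul]
    · simp
  simpa using hli.fintype_card_le_finrank

theorem card_ne_zero [Fintype F] (h : ringChar L ≠ ringChar F) : (Fintype.card F : L) ≠ 0 := by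
  have : CharP F (ringChar F) := ringChar.charP F
  obtain ⟨n, hp, hn⟩ := FiniteField.card F (ringChar F)
  rw [hn, Nat.cast_pow]
  refine pow_ne_zero _ fun h0 => ?_
  rcases hp.eq_one_or_self_of_dvd _ ((ringChar.spec L _).mp h0) with h1 | h1
  · exact CharP.ringChar_ne_one h1
  · exact h h1

theorem transport_isWeightVec {w w' : ι → F} {y : Fin d → L} (G G' : Matrix (Fin d) (Fin d) L)
    (hinv : G' * G = 1) (f : (ι → F) → (ι → F)) (hconj : ∀ v, R v * G = G * R (f v))
    (hf : ∀ v, w ⬝ᵥ f v = w' ⬝ᵥ v) (hy : IsWeightVec ψ R w y) : IsWeightVec ψ R w' (G *ᵥ y) := by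
  refine ⟨fun h0 => hy.1 ?_, fun v => ?_⟩
  · have := congrArg (G' *ᵥ ·) h0
    simpa [Matrix.mulVec_mulVec, hinv] using this
  · rw [Matrix.mulVec_mulVec, hconj, ← Matrix.mulVec_mulVec, hy.2, Matrix.mulVec_smul, hf]

end CfsgLib.CrossChar
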