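/-
The special linear group over a field is generated by elementary transvections.
-/
import Mathlib.LinearAlgebra.Matrix.Transvection
import Mathlib.LinearAlgebra.Matrix.SpecialLinearGroup

set_option autoImplicit false

namespace CfsgLib.SLTransvGen

open Matrix

variable {ι : Type*} [Fintype ι] [DecidableEq ι] {K : Type*} [Field K]

/-- The elementary transvection as an element of SL. -/
def tv {i j : ι} (h : i ≠ j) (t : K) : SpecialLinearGroup ι K :=
  ⟨Matrix.transvection i j t, det_transvection_of_ne i j h t⟩

theorem tv_coe {i j : ι} (h : i ≠ j) (t : K) :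
    (tv h t : Matrix ι ι K) = Matrix.transvection i j t := rfl

theorem tv_zero {i j : ι} (h : i ≠ j) : tv h (0 : K) = 1 := by
  apply Subtype.ext; simp [tv]

theorem tv_add {i j : ι} (h : i ≠ j) (s t : K) : tv h (s + t) = tv h s * tv h t := by
  apply Subtype.ext
  change Matrix.transvection i j (s + t) = Matrix.transvection i j s * Matrix.transvection i j t
  rw [transvection_mul_transvection_same i j h]

theorem tv_inv {i j : ι} (h : i ≠ j) (t : K) : (tv h t)⁻¹ = tv h (-t) := by
  rw [inv_eq_iff_mul_eq_one, ← tv_add, add_neg_cancel, tv_zero]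

theorem single_comm_prod {i j k : ι} (hik : i ≠ k) (hji : j ≠ i) (hkj : k ≠ j) (s t : K) :
    Matrix.transvection i j s * Matrix.transvection j k t * Matrix.transvection i j (-s) *
      Matrix.transvection j k (-t) = Matrix.transvection i k (s * t) := by
  simp only [Matrix.transvection, add_mul, mul_add, one_mul, mul_one, single_mul_single_same,
    ne_eq, hji, hkj, hik.symm, not_false_eq_true, single_mul_single_of_ne, add_zero]
  ext a b
  simp only [Matrix.add_apply, Matrix.single_apply, Matrix.one_apply]
  split_ifs <;> ring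

/-- Commutator of two adjacent transvections. -/
theorem tv_commutator {i j k : ι} (hij : i ≠ j) (hjk : j ≠ k) (hik : i ≠ k) (s t : K) :
    tv hij s * tv hjk t * (tv hij s)⁻¹ * (tv hjk t)⁻¹ = tv hik (s * t) := by
  rw [tv_inv, tv_inv]
  exact Subtype.ext (single_comm_prod hik hij.symm hjk.symm s t)

theorem single_rot {i j : ι} (hij : i ≠ j) (t : K) (ht : t ≠ 0) :
    (Matrix.transvection i j t * Matrix.transvection j i (-t⁻¹) * Matrix.transvection i j t) *
      (Matrix.transvection i j (-1) * Matrix.transvection j i 1 * Matrix.transvection i j (-1)) =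
      diagonal (Function.update (Function.update (1 : ι → K) i t) j t⁻¹) := by
  have hw : ∀ s : K, s ≠ 0 →
      Matrix.transvection i j s * Matrix.transvection j i (-s⁻¹) * Matrix.transvection i j s =
        1 - single i i 1 - single j j 1 + single i j s + single j i (-s⁻¹) := by
    intro s hs
    simp only [Matrix.transvection, add_mul, mul_add, one_mul, mul_one, single_mul_single_same,
      ne_eq, hij.symm, not_false_eq_true, single_mul_single_of_ne, mul_neg, neg_mul, inv_mul_cancel₀ hs, mul_inv_cancel₀ hs,
      add_zero]
    simp only [← Matrix.ext_iff]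
    intro a b
    simp only [Matrix.add_apply, Matrix.sub_apply, Matrix.single_apply, Matrix.one_apply]
    split_ifs <;> simp_all <;> ring
  have h1 := hw (-1) (by norm_num)
  rw [inv_neg, inv_one, neg_neg] at h1
  rw [hw t ht, h1]
  simp only [add_mul, mul_add, sub_mul, mul_sub, one_mul, mul_one, single_mul_single_same,
    ne_eq, hij, hij.symm, not_false_eq_true, single_mul_single_of_ne]
  simp only [← Matrix.ext_iff]
  intro a b
  simp only [Matrix.add_apply, Matrix.sub_apply, Matrix.single_apply, Matrix.one_apply,
    Matrix.zero_apply, Matrix.diagonal_apply, Function.update_apply, Pi.one_apply]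
  by_cases hab : a = b <;> by_cases hai : a = i <;> by_cases haj : a = j <;> simp_all [eq_comm]

/-- A subgroup of SL containing all elementary transvections is everything. -/
theorem eq_top_of_tv_mem (S : Subgroup (SpecialLinearGroup ι K))
    (h : ∀ (i j : ι) (hij : i ≠ j) (t : K), tv hij t ∈ S) : S = ⊤ := by
  classical
  rw [eq_top_iff]
  intro g _
  obtain ⟨L, L', D, hg⟩ := Matrix.Pivot.exists_list_transvec_mul_diagonal_mul_list_transvec (g : Matrix ι ι K)
  have hlist : ∀ l : List (TransvectionStruct ι K), ∃ s ∈ S, (s : Matrix ι ι K) = (l.map TransvectionStruct.toMatrix).prod := by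
    intro l
    induction l with
    | nil => exact ⟨1, S.one_mem, by simp⟩
    | cons a l ih =>
      obtain ⟨s, hs, hse⟩ := ih
      exact ⟨tv a.hij a.c * s, S.mul_mem (h _ _ a.hij a.c) hs,
        by simp [hse, TransvectionStruct.toMatrix, tv_coe]⟩
  obtain ⟨s, hs, hse⟩ := hlist L
  obtain ⟨s', hs', hse'⟩ := hlist L'
  have hdet : ∏ i, D i = 1 := by
    have := g.det_coe
    rw [hg, det_mul, det_mul, det_diagonal, TransvectionStruct.det_toMatrix_prod,
      TransvectionStruct.det_toMatrix_prod, one_mul, mul_one] at this
    exact this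
  let P : (ι → K) → Prop := fun f => ∃ u ∈ S, (u : Matrix ι ι K) = diagonal f
  have hP1 : P 1 := ⟨1, S.one_mem, by simp⟩
  have hPmul : ∀ f f', P f → P f' → P (f * f') := by
    rintro f f' ⟨u, hu, hue⟩ ⟨u', hu', hue'⟩
    exact ⟨u * u', S.mul_mem hu hu', by simp [hue, hue']⟩
  have hD : P D := by
    rcases isEmpty_or_nonempty ι with hι | ⟨⟨i₀⟩⟩
    · rw [show D = 1 from funext fun i => (hι.false i).elim]; exact hP1
    · have hne : ∀ i, D i ≠ 0 := fun i h0 => by
        rw [Finset.prod_eq_zero (Finset.mem_univ i) h0] at hdet; exact zero_ne_one hdet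
      have hpair : ∀ i, i ≠ i₀ → P (Function.update (Function.update (1 : ι → K) i (D i)) i₀ (D i)⁻¹) := by
        intro i hi
        refine ⟨(tv hi (D i) * tv hi.symm (-(D i)⁻¹) * tv hi (D i)) * (tv hi (-1) * tv hi.symm 1 * tv hi (-1)),
          ?_, single_rot hi (D i) (hne i)⟩
        exact S.mul_mem (S.mul_mem (S.mul_mem (h _ _ _ _) (h _ _ _ _)) (h _ _ _ _))
          (S.mul_mem (S.mul_mem (h _ _ _ _) (h _ _ _ _)) (h _ _ _ _))
      have hprod := Finset.prod_induction (fun i => Function.update (Function.update (1 : ι → K) i (D i)) i₀ (D i)⁻¹)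
        P hPmul hP1 (s := Finset.univ.erase i₀) (fun i hi => hpair i (Finset.ne_of_mem_erase hi))
      convert hprod using 1
      ext k
      rw [Finset.prod_apply]
      by_cases hk : k = i₀
      · subst hk
        simp only [Function.update_self, Finset.prod_inv_distrib]
        rw [← Finset.mul_prod_erase _ _ (Finset.mem_univ k)] at hdet
        exact eq_inv_of_mul_eq_one_left hdet
      · simp only [Function.update_of_ne hk]
        rw [Finset.prod_eq_single k]
        · simp
        · intro b _ hb
          simp [Function.update_of_ne hb.symm]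
        · simp [hk]
  obtain ⟨u, hu, hue⟩ := hD
  have : g = s * u * s' := Subtype.ext (by simp [hg, hse, hue, hse'])
  rw [this]
  exact S.mul_mem (S.mul_mem hs hu) hs'

end CfsgLib.SLTransvGen
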