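/-
Generation of SL by one root subgroup and a monomial element inducing an n-cycle.
-/
import Cfsg.Agent.Classical.SLTransvGen

set_option autoImplicit false

namespace CfsgLib.SLCycleGen

open Matrix SLTransvGen

variable {K : Type*} [Field K] {n : ℕ}

/-- The signed cyclic permutation matrix. -/
def cycleMat (n : ℕ) (K : Type*) [Field K] : Matrix (Fin (n + 1)) (Fin (n + 1)) K :=
  Matrix.of (fun i j => if j.val = i.val + 1 then 1 else if i.val = n ∧ j.val = 0 then (-1) ^ n else 0)

theorem cycleMat_mul_single_succ (i j : Fin n) (t : K) :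
    cycleMat n K * Matrix.transvection i.succ j.succ t =
      Matrix.transvection i.castSucc j.castSucc t * cycleMat n K := by
  simp only [Matrix.transvection, mul_add, add_mul, mul_one, one_mul]
  congr 1
  ext a b
  simp only [Matrix.mul_apply, Matrix.single_apply]
  rw [Finset.sum_eq_single i.succ, Finset.sum_eq_single j.castSucc]
  · simp only [cycleMat, Matrix.of_apply, Fin.val_succ, Fin.val_castSucc, Fin.ext_iff]
    have hi := i.isLt; have hj := j.isLt
    split_ifs <;> simp_all
  · intro c _ hc; simp [hc.symm]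
  · simp
  · intro c _ hc; simp [hc.symm]
  · simp

theorem cycleMat_mul_single_zero (hn : 1 ≤ n) (t : K) :
    cycleMat n K * Matrix.transvection (0 : Fin (n + 1)) 1 t =
      Matrix.transvection (Fin.last n) 0 ((-1) ^ n * t) * cycleMat n K := by
  simp only [Matrix.transvection, mul_add, add_mul, mul_one, one_mul]
  congr 1
  ext a b
  simp only [Matrix.mul_apply, Matrix.single_apply]
  have h1 : ((1 : Fin (n + 1)) : ℕ) = 1 := by simp [Fin.val_one', Nat.mod_eq_of_lt (show 1 < n + 1 by omega)]
  rw [Finset.sum_eq_single (0 : Fin (n + 1)), Finset.sum_eq_single (0 : Fin (n + 1))]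
  · have e1 : cycleMat n K a 0 = if a = Fin.last n then (-1) ^ n else 0 := by
      rw [cycleMat, Matrix.of_apply, if_neg (by rw [Fin.val_zero]; omega)]
      exact if_congr ⟨fun h => Fin.ext h.1, fun h => ⟨by rw [h, Fin.val_last], Fin.val_zero _⟩⟩ rfl rfl
    have e2 : cycleMat n K 0 b = if b = 1 then 1 else 0 := by
      by_cases hb : b = 1
      · rw [cycleMat, Matrix.of_apply, if_pos (by rw [hb, h1, Fin.val_zero]), if_pos hb]
      · have : b.val ≠ 1 := fun h => hb (Fin.ext (h.trans h1.symm))
        rw [cycleMat, Matrix.of_apply, if_neg (by rw [Fin.val_zero]; omega),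
          if_neg (by rw [Fin.val_zero]; omega), if_neg hb]
    rw [e1, e2]
    simp only [eq_comm (a := (1 : Fin (n + 1))) (b := b), eq_comm (a := Fin.last n) (b := a), true_and, and_true]
    by_cases ha : a = Fin.last n <;> by_cases hb : b = 1 <;> simp [ha, hb]
  · intro c _ hc; simp [hc.symm]
  · simp
  · intro c _ hc; simp [hc.symm]
  · simp

theorem eq_top_of_root_and_cycle (hn : 1 ≤ n) (S : Subgroup (SpecialLinearGroup (Fin (n + 1)) K))
    (w : SpecialLinearGroup (Fin (n + 1)) K) (hw : (w : Matrix (Fin (n + 1)) (Fin (n + 1)) K) = cycleMat n K)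
    (hwS : w ∈ S)
    (h01 : ∀ (hne : (0 : Fin (n + 1)) ≠ 1) (t : K), tv hne t ∈ S) : S = ⊤ := by
  have hne01 : (0 : Fin (n + 1)) ≠ 1 := by
    simp [Fin.ext_iff, Fin.val_one', Nat.mod_eq_of_lt (show 1 < n + 1 by omega)]
  -- consecutive positions
  have hcons : ∀ (m : ℕ) (i j : Fin (n + 1)) (hij : i ≠ j), i.val = m → j.val = m + 1 → ∀ t : K, tv hij t ∈ S := by
    intro m
    induction m with
    | zero =>
      intro i j hij hi hj t
      have hi0 : i = 0 := Fin.ext (by simpa using hi)
      have hj1 : j = 1 := Fin.ext (by simp [hj, Fin.val_one', Nat.mod_eq_of_lt (show 1 < n + 1 by omega)])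
      subst hi0 hj1
      exact h01 hij t
    | succ m ih =>
      intro i j hij hi hj t
      have hjlt := j.isLt
      let i' : Fin n := ⟨m, by omega⟩
      let j' : Fin n := ⟨m + 1, by omega⟩
      have hi' : i = i'.succ := Fin.ext (by simp [i', hi])
      have hj' : j = j'.succ := Fin.ext (by simp [j', hj])
      have hne' : i'.castSucc ≠ j'.castSucc := by simp [i', j', Fin.ext_iff]
      have heq : tv hij t = w⁻¹ * tv hne' t * w := by
        rw [mul_assoc, eq_inv_mul_iff_mul_eq]
        apply Subtype.ext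
        simp only [SpecialLinearGroup.coe_mul, hw, tv_coe]
        rw [hi', hj']
        exact cycleMat_mul_single_succ i' j' t
      rw [heq]
      exact S.mul_mem (S.mul_mem (S.inv_mem hwS) (ih _ _ hne' (by simp [i']) (by simp [j']) t)) hwS
  -- upper triangular positions
  have hup : ∀ (g : ℕ) (i j : Fin (n + 1)) (hij : i ≠ j), j.val = i.val + g + 1 → ∀ t : K, tv hij t ∈ S := by
    intro g
    induction g with
    | zero => intro i j hij hj t; exact hcons i.val i j hij rfl hj t
    | succ g ih =>
      intro i j hij hj t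
      have hjlt := j.isLt
      let k : Fin (n + 1) := ⟨i.val + g + 1, by omega⟩
      have hik : i ≠ k := by simp [k, Fin.ext_iff]; omega
      have hkj : k ≠ j := by simp [k, Fin.ext_iff]; omega
      rw [show tv hij t = tv hij (1 * t) by rw [one_mul], ← tv_commutator hik hkj hij]
      have a1 : tv hik (1 : K) ∈ S := ih i k hik rfl 1
      have a2 : tv hkj t ∈ S := hcons k.val k j hkj rfl (by simp [k]; omega) t
      exact S.mul_mem (S.mul_mem (S.mul_mem a1 a2) (S.inv_mem a1)) (S.inv_mem a2)
  have hlt : ∀ (i j : Fin (n + 1)) (hij : i ≠ j), i.val < j.val → ∀ t : K, tv hij t ∈ S :=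
    fun i j hij h t => hup (j.val - i.val - 1) i j hij (by omega) t
  have hcomm : ∀ (i j k : Fin (n + 1)) (hij : i ≠ j) (hjk : j ≠ k) (hik : i ≠ k),
      (∀ t : K, tv hij t ∈ S) → (∀ t : K, tv hjk t ∈ S) → ∀ t : K, tv hik t ∈ S := by
    intro i j k hij hjk hik a b t
    rw [show tv hik t = tv hik (1 * t) by rw [one_mul], ← tv_commutator hij hjk hik]
    exact S.mul_mem (S.mul_mem (S.mul_mem (a 1) (b t)) (S.inv_mem (a 1))) (S.inv_mem (b t))
  -- bottom left corner
  have hne0 : Fin.last n ≠ (0 : Fin (n + 1)) := by simp [Fin.ext_iff]; omega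
  have hcorner : ∀ t : K, tv hne0 t ∈ S := by
    intro t
    have heq : tv hne0 t = w * tv hne01 ((-1) ^ n * t) * w⁻¹ := by
      rw [eq_mul_inv_iff_mul_eq]
      apply Subtype.ext
      simp only [SpecialLinearGroup.coe_mul, hw, tv_coe]
      rw [cycleMat_mul_single_zero hn, ← mul_assoc, ← mul_pow]
      simp
    rw [heq]
    exact S.mul_mem (S.mul_mem hwS (h01 hne01 _)) (S.inv_mem hwS)
  have hcol0 : ∀ (i : Fin (n + 1)) (hi : i ≠ 0), ∀ t : K, tv hi t ∈ S := by
    intro i hi
    by_cases hin : i = Fin.last n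
    · subst hin; exact hcorner
    · exact hcomm i (Fin.last n) 0 hin hne0 hi (hlt i _ hin (Fin.val_lt_last hin)) hcorner
  refine eq_top_of_tv_mem S fun i j hij t => ?_
  rcases lt_or_gt_of_ne (Fin.val_ne_iff.mpr hij) with h | h
  · exact hlt i j hij h t
  · by_cases hj : j = 0
    · subst hj; exact hcol0 i hij t
    · have hi : i ≠ 0 := by intro h0; subst h0; simp at h
      exact hcomm i 0 j hi (Ne.symm hj) hij (hcol0 i hi) (hlt 0 j _ (Fin.pos_iff_ne_zero.mpr hj)) t

end CfsgLib.SLCycleGen
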